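import Mathlib
import Cfsg.Agent.S0790
import Cfsg.Agent.S0791
import Cfsg.Agent.S2094
import Cfsg.Agent.S2096
import Cfsg.Agent.S2097
import Cfsg.Agent.S2099
import Cfsg.Agent.GenOrth.Normal
import Cfsg.Agent.LieClassical.OrthFourCommon
import Cfsg.Agent.Fischer919.OmegaIdent
import Cfsg.Agent.H68.Bounds
import Cfsg.Agent.H67.PCov
import Cfsg.Agent.H487.SchurMult

/-!
# S3325, piece Cover (helper889): the Schur multiplier of `PΩ(Q)`, `Q` any nondegenerate form

* `noPCov` : a perfect central extension with kernel as large as the multiplier has no perfect central extension of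
  prime degree;
* `exists_schur` : the multiplier of `PΩ(Q)` is a 2-group of order at most `2 |Z(Ω(Q))|` (odd `q`, dimension at least
  eight).
-/

set_option autoImplicit false

namespace Cfsg.Agent.H889.Cover

open Subgroup Cfsg QuadraticMap Cfsg.Agent.H51.Mult Cfsg.Agent.H67 Cfsg.Agent.GenOrth
  Cfsg.Agent.LieClassical.OrthCore Cfsg.Agent.LieClassical.OrthFourCommon

section schur

variable {S : Type} [Group S] {A : Type} [CommGroup A] (h : HasSchurMultiplier S A)
include h

theorem exists_surj {L : Type} [Group L] [Finite L] {π : L →* S} (hπ : PCE π) :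
    ∃ f : A →* π.ker, Function.Surjective f := h.2 L π hπ.toStem

theorem card_ker_le {L : Type} [Group L] [Finite L] {π : L →* S} (hπ : PCE π) : Nat.card π.ker ≤ Nat.card A := by
  obtain ⟨f, hf⟩ := exists_surj h hπ
  have := H487.finite_multiplier h
  exact Nat.card_le_card_of_surjective f hf

theorem isPGroup_ker {p : ℕ} (hA : IsPGroup p A) {L : Type} [Group L] [Finite L] {π : L →* S} (hπ : PCE π) :
    IsPGroup p π.ker := by
  obtain ⟨f, hf⟩ := exists_surj h hπ
  exact hA.of_surjective f hf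

theorem noPCov {p : ℕ} (hp : p.Prime) {Γ : Type} [Group Γ] [Finite Γ] {σ : Γ →* S} (hσ : PCE σ)
    (hA : Nat.card A ≤ Nat.card σ.ker) : NoPCov p Γ := by
  intro L _ _ π c hc
  have hπ : PCE π := ⟨hc.surj, hc.ker_le, hc.perf⟩
  have h1 := card_ker_le h (H68.Bounds.pce_comp hπ hσ)
  rw [H68.Bounds.card_ker_comp hπ.surj, hc.card_ker hp] at h1
  have h2 : 0 < Nat.card σ.ker := Nat.card_pos
  have h3 := hp.two_le
  nlinarith

end schur

section sim

variable {F : Type*} [Field F] {ι : Type} [Fintype ι] [DecidableEq ι] {κ : Type} [Fintype κ] [DecidableEq κ]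

/-- similar forms have isomorphic isometry groups -/
theorem sim_isom {Q : QuadraticForm F (ι → F)} {q : (κ → F) → F} (h : Sim Q q) :
    Nonempty (isometryGroup F ⇑Q ≃* isometryGroup F q) := by
  obtain ⟨c, hc, j, hj⟩ := h
  obtain ⟨e1⟩ := exists_isometryGroup_equiv j (fun x => c * q x) (⇑Q) hj
  obtain ⟨e2⟩ := exists_isometryGroup_equiv (LinearEquiv.refl F (ι → F)) (⇑Q) (⇑Q) (fun _ => rfl)
  have e3 : isometryGroup F (fun x => c * q x) ≃* isometryGroup F q :=
    MulEquiv.subgroupCongr (Cfsg.Agent.Fischer919.OmegaIdent.isometryGroup_smul q hc)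
  exact ⟨e2.trans (e1.symm.trans e3)⟩

/-- isomorphic groups have isomorphic commutator subgroups -/
theorem commutator_equiv {G H : Type*} [Group G] [Group H] (e : G ≃* H) :
    Nonempty (commutator G ≃* commutator H) := by
  have h1 : (commutator G).map (e : G →* H) = commutator H := by
    rw [_root_.commutator_def, _root_.commutator_def, Subgroup.map_commutator]
    rw [Subgroup.map_top_of_surjective _ e.surjective]
  exact ⟨(e.subgroupMap (commutator G)).trans (MulEquiv.subgroupCongr h1)⟩

theorem card_center_congr {G H : Type*} [Group G] [Group H] (e : G ≃* H) :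
    Nat.card (center G) = Nat.card (center H) :=
  Nat.card_congr (Subgroup.centerCongr e).toEquiv

end sim

/-- the claim on the multiplier -/
def Mu {F : Type} [Field F] {ι : Type} [Fintype ι] [DecidableEq ι] (q : (ι → F) → F) : Prop :=
  ∃ (A : Type) (_ : CommGroup A), HasSchurMultiplier (POmega F q) A ∧ IsPGroup 2 A ∧
    Nat.card A ≤ 2 * Nat.card (center (Omega F q))

theorem Mu.of_sim {F : Type} [Field F] {ι : Type} [Fintype ι] [DecidableEq ι] {κ : Type} [Fintype κ] [DecidableEq κ]
    {Q : QuadraticForm F (ι → F)} {q : (κ → F) → F} (h : Sim Q q) (hq : Mu q) : Mu ⇑Q := by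
  obtain ⟨A, _, h1, h2, h3⟩ := hq
  obtain ⟨e⟩ := sim_isom h
  obtain ⟨e1⟩ := Cfsg.Agent.ClassicalGeometry.OddInvolutions.commutator_quot_center_congr e
  obtain ⟨e2⟩ := commutator_equiv e
  refine ⟨A, inferInstance, H487.HasSchurMultiplier.congr_left h1 e1.symm, h2, ?_⟩
  rw [card_center_congr e2]
  exact h3

section std

variable {F : Type} [Field F] [Fintype F]

theorem one_le_card_center {ι : Type} [Fintype ι] [DecidableEq ι] (q : (ι → F) → F) :
    1 ≤ Nat.card (center (Omega F q)) := by
  have : Finite (Omega F q) := inferInstance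
  exact Nat.card_pos

theorem two_le_card_center (h2 : (2 : F) ≠ 0) {ι : Type} [Fintype ι] [DecidableEq ι] [Nonempty ι] (q : (ι → F) → F)
    (h : ∃ g : ↥(isometryGroup F q), g ∈ Omega F q ∧ ((g : Matrix.GeneralLinearGroup ι F) : Matrix ι ι F) = -1) :
    2 ≤ Nat.card (center (Omega F q)) := by
  obtain ⟨g, hg, hm⟩ := h
  have hc : (⟨g, hg⟩ : Omega F q) ∈ center (Omega F q) := by
    rw [mem_center_iff]
    intro x
    apply Subtype.ext
    apply Subtype.ext
    apply Units.ext
    show ((x.1 : Matrix.GeneralLinearGroup ι F) : Matrix ι ι F) * ((g : Matrix.GeneralLinearGroup ι F) : Matrix ι ι F) =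
      ((g : Matrix.GeneralLinearGroup ι F) : Matrix ι ι F) * ((x.1 : Matrix.GeneralLinearGroup ι F) : Matrix ι ι F)
    rw [hm, mul_neg, neg_mul, mul_one, one_mul]
  have hne : (⟨⟨g, hg⟩, hc⟩ : center (Omega F q)) ≠ 1 := by
    intro h1
    have h3 : g = 1 := congrArg Subtype.val (congrArg Subtype.val h1)
    rw [h3] at hm
    have h4 : (1 : Matrix ι ι F) = -1 := hm
    obtain ⟨i⟩ := (inferInstance : Nonempty ι)
    have h5 := congrFun (congrFun h4 i) i
    rw [Matrix.neg_apply, Matrix.one_apply_eq] at h5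
    apply h2
    linear_combination h5
  have : Finite (Omega F q) := inferInstance
  have h6 : Nontrivial (center (Omega F q)) := ⟨_, _, hne⟩
  exact Finite.one_lt_card

theorem two_ne (hodd : Odd (Fintype.card F)) : (2 : F) ≠ 0 := by
  have hchar : ringChar F ≠ 2 := by
    intro h
    have := FiniteField.even_card_of_char_two h
    rw [Nat.odd_iff] at hodd
    omega
  exact Ring.two_ne_zero hchar

theorem pgroup_zmod {n : ℕ} (k : ℕ) (hn : n = 2 ^ k) : IsPGroup 2 (Multiplicative (ZMod n)) := by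
  subst hn
  refine IsPGroup.of_card (n := k) ?_
  rw [Nat.card_congr Multiplicative.toAdd, Nat.card_zmod]

theorem mu_odd (hodd : Odd (Fintype.card F)) {m : ℕ} (hm : 4 ≤ m) : Mu (quadFormOdd m F) := by
  refine ⟨Multiplicative (ZMod 2), inferInstance, S2094.result rfl hodd m (by omega) (by omega),
    pgroup_zmod 1 rfl, ?_⟩
  rw [Nat.card_congr Multiplicative.toAdd, Nat.card_zmod]
  have := one_le_card_center (F := F) (quadFormOdd m F)
  omega

theorem gcd_four {n : ℕ} (hn : n % 2 = 0) : (n % 4 = 0 ∧ Nat.gcd 4 n = 4) ∨ (n % 4 = 2 ∧ Nat.gcd 4 n = 2) := by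
  have h1 : n % 4 = 0 ∨ n % 4 = 2 := by omega
  rcases h1 with h1 | h1
  · exact Or.inl ⟨h1, Nat.gcd_eq_left (Nat.dvd_of_mod_eq_zero h1)⟩
  · right
    refine ⟨h1, ?_⟩
    rw [Nat.gcd_rec, h1]
    rfl

theorem mu_plus (hodd : Odd (Fintype.card F)) {m : ℕ} (hm : 4 ≤ m) : Mu (quadFormPlus m F) := by
  have h2 := two_ne hodd
  have hq1 : Fintype.card F ^ m % 2 = 1 := by
    rw [← Nat.odd_iff]
    exact hodd.pow
  have hpos : 0 < Fintype.card F ^ m := pow_pos Fintype.card_pos m
  have hne : Nonempty (Fin m ⊕ Fin m) := ⟨.inl ⟨0, by omega⟩⟩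
  have key : Fintype.card F ^ m % 4 = 1 → 2 ≤ Nat.card (center (Omega F (quadFormPlus m F))) := fun h =>
    two_le_card_center h2 _ ((S0790.result rfl hodd m (by omega)).2 h)
  have h1 := one_le_card_center (F := F) (quadFormPlus m F)
  rcases Nat.even_or_odd m with he | ho
  · have h4 : Fintype.card F ^ m % 4 = 1 := by
      obtain ⟨k, rfl⟩ := he
      have h5 : Fintype.card F % 4 = 1 ∨ Fintype.card F % 4 = 3 := by
        have := Nat.odd_iff.1 hodd
        omega
      rw [← two_mul, pow_mul, Nat.pow_mod]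
      have h6 : Fintype.card F ^ 2 % 4 = 1 := by
        rcases h5 with h5 | h5 <;> rw [Nat.pow_mod, h5]
      rw [h6, one_pow, Nat.one_mod]
    have hr := S2097.result (F := F) rfl m (by omega) he (by
      rintro ⟨-, h⟩
      rw [h] at hodd
      exact absurd hodd (by decide))
    have hg : Nat.gcd 2 (Fintype.card F ^ m - 1) = 2 := Nat.gcd_eq_left (by omega)
    rw [hg] at hr
    refine ⟨_, inferInstance, hr, ?_, ?_⟩
    · refine IsPGroup.of_card (n := 2) ?_
      rw [Nat.card_congr Multiplicative.toAdd, Nat.card_prod, Nat.card_zmod]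
      norm_num
    · rw [Nat.card_congr Multiplicative.toAdd, Nat.card_prod, Nat.card_zmod]
      have := key h4
      omega
  · have hr := S2096.result (F := F) rfl m (by obtain ⟨k, rfl⟩ := ho; omega) ho
    refine ⟨_, inferInstance, hr, ?_, ?_⟩
    · rcases gcd_four (n := Fintype.card F ^ m - 1) (by omega) with ⟨h4, h5⟩ | ⟨h4, h5⟩
      · exact pgroup_zmod 2 h5
      · exact pgroup_zmod 1 h5
    · rw [Nat.card_congr Multiplicative.toAdd, Nat.card_zmod]
      rcases gcd_four (n := Fintype.card F ^ m - 1) (by omega) with ⟨h4, h5⟩ | ⟨h4, h5⟩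
      · rw [h5]
        have := key (by omega)
        omega
      · rw [h5]
        omega

theorem mu_minus (hodd : Odd (Fintype.card F)) {m : ℕ} (hm : 3 ≤ m) {a b : F} (hab : Aniso a b) :
    Mu (quadFormMinus m F a b) := by
  have h2 := two_ne hodd
  have hq1 : Fintype.card F ^ (m + 1) % 2 = 1 := by
    rw [← Nat.odd_iff]
    exact hodd.pow
  have hpos : 0 < Fintype.card F ^ (m + 1) := pow_pos Fintype.card_pos _
  have hne : Nonempty ((Fin m ⊕ Fin m) ⊕ Fin 2) := ⟨.inr 0⟩
  have key : Fintype.card F ^ (m + 1) % 4 = 3 → 2 ≤ Nat.card (center (Omega F (quadFormMinus m F a b))) := fun h =>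
    two_le_card_center h2 _ ((S0791.result rfl hodd (m + 1) (by omega) a b hab).2 h)
  have h1 := one_le_card_center (F := F) (quadFormMinus m F a b)
  have hr := S2099.result (F := F) rfl (m + 1) (by omega) a b hab
  rw [Nat.add_sub_cancel] at hr
  refine ⟨_, inferInstance, hr, ?_, ?_⟩
  · rcases gcd_four (n := Fintype.card F ^ (m + 1) + 1) (by omega) with ⟨h4, h5⟩ | ⟨h4, h5⟩
    · exact pgroup_zmod 2 h5
    · exact pgroup_zmod 1 h5
  · rw [Nat.card_congr Multiplicative.toAdd, Nat.card_zmod]
    rcases gcd_four (n := Fintype.card F ^ (m + 1) + 1) (by omega) with ⟨h4, h5⟩ | ⟨h4, h5⟩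
    · rw [h5]
      have := key (by omega)
      omega
    · rw [h5]
      omega

end std

/-- **The multiplier of `PΩ(Q)`.** -/
theorem exists_schur {F : Type} [Field F] [Fintype F] (hodd : Odd (Fintype.card F)) {ι : Type} [Fintype ι]
    [DecidableEq ι] {Q : QuadraticForm F (ι → F)} (hQ : Nondeg Q) (hd : 8 ≤ Fintype.card ι) : Mu ⇑Q := by
  rcases normal_form (Fintype.card ι) hQ (by simp) with ⟨k, hk, hs⟩ | ⟨k, hk, hs⟩ | ⟨k, hk, a, b, hab, hs⟩
  · exact Mu.of_sim hs (mu_odd hodd (by omega))
  · exact Mu.of_sim hs (mu_plus hodd (by omega))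
  · exact Mu.of_sim hs (mu_minus hodd (by omega) hab)

end Cfsg.Agent.H889.Cover
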