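import Mathlib
import Cfsg.Agent.H889.Cover.Schur
import Cfsg.Agent.H889.Cover.Spin
import Cfsg.Agent.H889.EM.CovTwo
import Cfsg.Agent.H312.Orth.Inst
import Cfsg.Agent.H323.OI.Pieces

/-!
# S3325, piece Cover (helper889)

* `cover_abs` : `π : K → S` a perfect central extension of a central quotient `ρ : Ω(Q) → S`, `j : X → Ω(Q)` a
  homomorphism of a perfect group which lifts to `K`, with commuting elements `g`, `h` of `X` mapping to `r₁ r₂`,
  `r₂ r₃`: `K` is a quotient of `Ω(Q)`;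
* `pCover : PCover`.
-/

set_option autoImplicit false
set_option linter.unusedSectionVars false

namespace Cfsg.Agent.H889.Cover

open Subgroup Cfsg QuadraticMap Cfsg.Agent.H51.Mult Cfsg.Agent.H183
open Cfsg.Agent.ClassicalGeometry.Reflection
open Cfsg.Agent.LieClassical.OrthCore Cfsg.Agent.LieClassical.OrthSimple Cfsg.Agent.LieClassical.OrthFinite
open scoped commutatorElement

section gen

/-- two homomorphisms of a perfect group which agree modulo the centre -/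
theorem hom_eq {X L S : Type*} [Group X] [Group L] [Group S] (hX : commutator X = ⊤) {π : L →* S}
    (hc : π.ker ≤ center L) {f g : X →* L} (h : ∀ x, π (f x) = π (g x)) (x : X) : f x = g x := by
  have h1 : commutator X ≤ f.eqLocus g := by
    rw [commutator_eq_closure, closure_le]
    rintro _ ⟨a, b, rfl⟩
    show f ⁅a, b⁆ = g ⁅a, b⁆
    rw [map_commutatorElement, map_commutatorElement]
    exact H48.Spin.comm_congr hc (h a) (h b)
  exact h1 (hX ▸ mem_top x)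

theorem exists_factor {A B C : Type*} [Group A] [Group B] [Group C] {f : A →* B} (hf : Function.Surjective f)
    {g : A →* C} (h : f.ker ≤ g.ker) : ∃ k : B →* C, ∀ a, k (f a) = g a :=
  ⟨f.liftOfSurjective hf ⟨g, h⟩, fun a => f.liftOfRightInverse_comp_apply _ _ ⟨g, h⟩ a⟩

end gen

section cover

variable {F : Type} [Field F] [Fintype F] {ι : Type} [Fintype ι] [DecidableEq ι]

theorem cover_abs (hodd : Odd (Fintype.card F)) (Q : QuadraticForm F (ι → F))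
    (hQn : (polarBilin Q).Nondegenerate) (hcard : 8 ≤ Fintype.card ι)
    {u₁ u₂ u₃ : ι → F} {c : F} (hc : c ≠ 0) (q1 : Q u₁ = c) (q2 : Q u₂ = c) (q3 : Q u₃ = c)
    (m1 : Q u₁ ≠ 0) (m2 : Q u₂ ≠ 0) (m3 : Q u₃ ≠ 0)
    (h12 : polar (⇑Q) u₁ u₂ = 0) (h13 : polar (⇑Q) u₁ u₃ = 0) (h23 : polar (⇑Q) u₂ u₃ = 0)
    {X : Type} [Group X] (hX : commutator X = ⊤) (j : X →* Omega F ⇑Q) {g h : X} (hgh : g * h = h * g)
    (hg : (j g : isometryGroup F ⇑Q) = reflIso Q u₁ m1 * reflIso Q u₂ m2)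
    (hh : (j h : isometryGroup F ⇑Q) = reflIso Q u₂ m2 * reflIso Q u₃ m3)
    {K S : Type} [Group K] [Finite K] [Group S] (π : K →* S) (hπs : Function.Surjective π)
    (hπc : π.ker ≤ center K) (hK : commutator K = ⊤) (ψ : X →* K)
    (ρ : Omega F ⇑Q →* S) (hρs : Function.Surjective ρ)
    (hρc : ρ.ker ≤ center (Omega F ⇑Q)) (hψ : ∀ m, π (ψ m) = ρ (j m)) :
    ∃ ρ' : Omega F ⇑Q →* K, Function.Surjective ρ' ∧ (∀ x, π (ρ' x) = ρ x) ∧ ∀ m, ρ' (j m) = ψ m := by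
  have h2 := two_ne hodd
  have hQ : Nondeg Q := nondeg_of_nondegenerate hQn
  have hG := good_of_finite hQ (by rw [Module.finrank_fintype_fun_eq_card]; omega)
  have hp : commutator (Omega F ⇑Q) = ⊤ := H312.Orth.omega_perfect hG
  -- the cover of `PΩ`
  obtain ⟨Γ, _, _, κ', z, hκ, hz, hz1, hab⟩ := exists_spin h2 hc hQn hp q1 q2 q3 m1 m2 m3 h12 h13 h23
  obtain ⟨A, _, hA, hA2, hAc⟩ := exists_schur hodd hQ hcard
  have hfin : Finite (Omega F ⇑Q) := inferInstance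
  let mk : Omega F ⇑Q →* POmega F ⇑Q := QuotientGroup.mk' _
  have hmkk : mk.ker = center (Omega F ⇑Q) := QuotientGroup.ker_mk' _
  have hmk : PCE mk := ⟨QuotientGroup.mk'_surjective _, hmkk.le, hp⟩
  have hσ : PCE (mk.comp κ') := H68.Bounds.pce_comp hκ hmk
  have hcard1 := H68.Bounds.card_ker_comp (ρ := mk) hκ.surj
  rw [hmkk] at hcard1
  have hzk : z ∈ κ'.ker := hz
  have h2le : 2 ≤ Nat.card κ'.ker := by
    have hne : (⟨z, hzk⟩ : κ'.ker) ≠ 1 := fun h => hz1 (congrArg Subtype.val h)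
    have : Nontrivial κ'.ker := ⟨_, _, hne⟩
    exact Finite.one_lt_card
  have hle2 : Nat.card κ'.ker ≤ 2 := by
    have h3 := card_ker_le hA hσ
    rw [hcard1] at h3
    have h4 : 0 < Nat.card (center (Omega F ⇑Q)) := Nat.card_pos
    by_contra h5
    push Not at h5
    nlinarith
  have hno : H67.NoPCov 2 Γ := noPCov hA Nat.prime_two hσ (by
    rw [hcard1]
    nlinarith)
  -- `θ : S → PΩ`
  obtain ⟨θ, hθ⟩ := exists_factor hρs (g := mk) (by rw [hmkk]; exact hρc)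
  have hπ : PCE π := ⟨hπs, hπc, hK⟩
  have hθP : PCE θ := by
    refine ⟨fun y => ?_, ?_, hπ.perf_base⟩
    · obtain ⟨x, rfl⟩ := hmk.surj y
      exact ⟨ρ x, hθ x⟩
    · intro s hs
      obtain ⟨x, rfl⟩ := hρs s
      have h3 : mk x = 1 := by rw [← hθ]; exact hs
      have h4 : x ∈ center (Omega F ⇑Q) := by rw [← hmkk]; exact h3
      rw [mem_center_iff]
      intro t
      obtain ⟨y, rfl⟩ := hρs t
      rw [← map_mul, ← map_mul, mem_center_iff.1 h4 y]
  have hσK : PCE (θ.comp π) := H68.Bounds.pce_comp hπ hθP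
  obtain ⟨f, hfs, hf⟩ := EMCov.exists_cover_map_two hσ hσK hno (isPGroup_ker hA hA2 hσK)
  have hπf : ∀ x, π (f x) = ρ (κ' x) := by
    refine hom_eq (f := π.comp f) (g := ρ.comp κ') hκ.perf hθP.cen fun x => ?_
    show θ (π (f x)) = θ (ρ (κ' x))
    rw [hθ]
    exact hf x
  -- `f z = 1`
  have hfz : f z = 1 := by
    obtain ⟨a, ha⟩ := hκ.surj (j g)
    obtain ⟨b, hb⟩ := hκ.surj (j h)
    have h3 : ⁅a, b⁆ = z := hab a b (by rw [ha]; exact hg) (by rw [hb]; exact hh)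
    rw [← h3, map_commutatorElement]
    have h4 : ⁅f a, f b⁆ = ⁅ψ g, ψ h⁆ :=
      H48.Spin.comm_congr hπc (by rw [hπf, ha, hψ]) (by rw [hπf, hb, hψ])
    rw [h4, ← map_commutatorElement, commutatorElement_eq_one_iff_mul_comm.2 hgh, map_one]
  have hker : κ'.ker ≤ f.ker := by
    intro x hx
    have hzpow : zpowers z ≤ κ'.ker := by rw [zpowers_le]; exact hzk
    have h3 : zpowers z = κ'.ker := by
      apply eq_of_le_of_card_ge hzpow
      refine hle2.trans ?_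
      have hne : (⟨z, mem_zpowers z⟩ : zpowers z) ≠ 1 := fun h => hz1 (congrArg Subtype.val h)
      have : Nontrivial (zpowers z) := ⟨_, _, hne⟩
      exact Finite.one_lt_card
    rw [← h3] at hx
    have h4 : zpowers z ≤ f.ker := by rw [zpowers_le]; exact hfz
    exact h4 hx
  obtain ⟨ρ', hρ'⟩ := exists_factor hκ.surj hker
  have hπρ : ∀ x, π (ρ' x) = ρ x := by
    intro x
    obtain ⟨y, rfl⟩ := hκ.surj x
    rw [hρ', hπf]
  refine ⟨ρ', fun k => ?_, hπρ, ?_⟩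
  · obtain ⟨y, rfl⟩ := hfs k
    exact ⟨κ' y, hρ' y⟩
  · intro m
    refine hom_eq (f := ρ'.comp j) (g := ψ) hX hπc (fun x => ?_) m
    show π (ρ' (j x)) = π (ψ x)
    rw [hπρ, hψ]

/-- the same with matrices and a function in place of the form -/
theorem cover_fun (hodd : Odd (Fintype.card F)) (Q : QuadraticForm F (ι → F))
    (hQn : (polarBilin Q).Nondegenerate) (hcard : 8 ≤ Fintype.card ι)
    {u₁ u₂ u₃ : ι → F} {c : F} (hc : c ≠ 0) (q1 : Q u₁ = c) (q2 : Q u₂ = c) (q3 : Q u₃ = c)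
    (h12 : polar (⇑Q) u₁ u₂ = 0) (h13 : polar (⇑Q) u₁ u₃ = 0) (h23 : polar (⇑Q) u₂ u₃ = 0)
    {f : (ι → F) → F} (hf : f = ⇑Q)
    {X : Type} [Group X] (hX : commutator X = ⊤) (j : X →* Omega F f) {g h : X} (hgh : g * h = h * g)
    (hg : (((j g : isometryGroup F f) : Matrix.GeneralLinearGroup ι F) : Matrix ι ι F) =
      reflectionMatrix ⇑Q u₁ * reflectionMatrix ⇑Q u₂)
    (hh : (((j h : isometryGroup F f) : Matrix.GeneralLinearGroup ι F) : Matrix ι ι F) =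
      reflectionMatrix ⇑Q u₂ * reflectionMatrix ⇑Q u₃)
    {K S : Type} [Group K] [Finite K] [Group S] (π : K →* S) (hπs : Function.Surjective π)
    (hπc : π.ker ≤ center K) (hK : commutator K = ⊤) (ψ : X →* K)
    (ρ : Omega F f →* S) (hρs : Function.Surjective ρ)
    (hρc : ρ.ker ≤ center (Omega F f)) (hψ : ∀ m, π (ψ m) = ρ (j m)) :
    ∃ ρ' : Omega F f →* K, Function.Surjective ρ' ∧ (∀ x, π (ρ' x) = ρ x) ∧ ∀ m, ρ' (j m) = ψ m := by
  subst hf
  have m1 : Q u₁ ≠ 0 := by rw [q1]; exact hc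
  have m2 : Q u₂ ≠ 0 := by rw [q2]; exact hc
  have m3 : Q u₃ ≠ 0 := by rw [q3]; exact hc
  refine cover_abs hodd Q hQn hcard hc q1 q2 q3 m1 m2 m3 h12 h13 h23 hX j hgh ?_ ?_ π hπs hπc hK ψ ρ hρs hρc hψ
  · apply Subtype.ext
    apply Units.ext
    exact hg
  · apply Subtype.ext
    apply Units.ext
    exact hh

end cover

section dq

open Cfsg.Agent.H323.OI

variable {F : Type} [Field F] [Fintype F]

theorem omega_fun {ι : Type} [Fintype ι] [DecidableEq ι] (hodd : Odd (Fintype.card F)) {Q : QuadraticForm F (ι → F)}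
    (hQn : (polarBilin Q).Nondegenerate) (hcard : 5 ≤ Fintype.card ι) {f : (ι → F) → F} (hf : f = ⇑Q)
    {u₁ u₂ u₃ : ι → F} {c : F} (hc : c ≠ 0) (q1 : Q u₁ = c) (q2 : Q u₂ = c) (q3 : Q u₃ = c)
    (h12 : polar (⇑Q) u₁ u₂ = 0) (h13 : polar (⇑Q) u₁ u₃ = 0) (h23 : polar (⇑Q) u₂ u₃ = 0) :
    commutator (Omega F f) = ⊤ ∧ ∃ g h : Omega F f, g * h = h * g ∧
      (((g : isometryGroup F f) : Matrix.GeneralLinearGroup ι F) : Matrix ι ι F) =
        reflectionMatrix ⇑Q u₁ * reflectionMatrix ⇑Q u₂ ∧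
      (((h : isometryGroup F f) : Matrix.GeneralLinearGroup ι F) : Matrix ι ι F) =
        reflectionMatrix ⇑Q u₂ * reflectionMatrix ⇑Q u₃ := by
  subst hf
  have h2 := two_ne hodd
  have m1 : Q u₁ ≠ 0 := by rw [q1]; exact hc
  have m2 : Q u₂ ≠ 0 := by rw [q2]; exact hc
  have m3 : Q u₃ ≠ 0 := by rw [q3]; exact hc
  refine ⟨H312.Orth.omega_perfect (good_of_finite (nondeg_of_nondegenerate hQn) (by
    rw [Module.finrank_fintype_fun_eq_card]; omega)),
    ⟨_, H48.Spin.refl_mul_mem h2 hc q1 q2 h12 m1 m2⟩, ⟨_, H48.Spin.refl_mul_mem h2 hc q2 q3 h23 m2 m3⟩, ?_, rfl, rfl⟩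
  apply Subtype.ext
  exact refl_comm m1 m2 m3 h12 h13 h23

/-- `fromBlocks (r_u) 0 0 1 = r_{(u, 0)}` -/
theorem fromBlocks_refl {ι κ : Type} [Fintype ι] [DecidableEq ι] [Fintype κ] [DecidableEq κ]
    {Q₁ : QuadraticForm F (ι → F)} {Q₂ : QuadraticForm F (κ → F)} {u : ι → F} (hu : Q₁ u ≠ 0) :
    Matrix.fromBlocks (reflectionMatrix ⇑Q₁ u) 0 0 (1 : Matrix κ κ F) =
      reflectionMatrix ⇑(sumForm Q₁ Q₂) (Sum.elim u 0) := by
  have h1 := blk_refl_one Q₁ Q₂ u hu (by rw [sumForm_elim_left]; exact hu)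
  have h2 := congrArg (fun g : isometryGroup F (sumFun ⇑Q₁ ⇑Q₂) =>
    ((g : Matrix.GeneralLinearGroup (ι ⊕ κ) F) : Matrix (ι ⊕ κ) (ι ⊕ κ) F)) h1
  exact h2

/-- three orthogonal vectors of norm one -/
theorem exists_three (h2 : (2 : F) ≠ 0) {n : ℕ} (hn : 6 ≤ n) (c : Fin n → F) (hc : ∀ i, c i ≠ 0) :
    ∃ u₁ u₂ u₃ : Fin n → F, dqF c u₁ = 1 ∧ dqF c u₂ = 1 ∧ dqF c u₃ = 1 ∧ polar (⇑(dqF c)) u₁ u₂ = 0 ∧
      polar (⇑(dqF c)) u₁ u₃ = 0 ∧ polar (⇑(dqF c)) u₂ u₃ = 0 := by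
  have key : ∀ i j : Fin n, i ≠ j → ∃ x y : F, dqF c (Pi.single i x + Pi.single j y) = 1 := by
    intro i j hij
    obtain ⟨x, y, hxy⟩ := Cfsg.Agent.ClassicalGeometry.Discriminant.exists_repr h2 (c i) (c j) 1 (hc i) (hc j)
    refine ⟨x, y, ?_⟩
    rw [← hxy, coe_dqF]
    show ∑ k, c k * (Pi.single i x + Pi.single j y : Fin n → F) k ^ 2 = _
    rw [← Finset.sum_subset (Finset.subset_univ {i, j}), Finset.sum_pair hij]
    · simp [Pi.single_eq_of_ne hij, Pi.single_eq_of_ne (Ne.symm hij)]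
    · intro k _ hk
      rw [Finset.mem_insert, Finset.mem_singleton, not_or] at hk
      simp [Pi.single_eq_of_ne hk.1, Pi.single_eq_of_ne hk.2]
  have horth : ∀ i j i' j' : Fin n, i ≠ i' → i ≠ j' → j ≠ i' → j ≠ j' → ∀ x y x' y' : F,
      polar (⇑(dqF c)) (Pi.single i x + Pi.single j y) (Pi.single i' x' + Pi.single j' y') = 0 := by
    intro i j i' j' h1 h3 h4 h5 x y x' y'
    rw [show dqF c = H637.DQ c from rfl, H637.polar_DQ]
    apply Finset.sum_eq_zero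
    intro k _
    by_cases hki : k = i
    · subst hki
      simp [Pi.single_eq_of_ne h1, Pi.single_eq_of_ne h3]
    · by_cases hkj : k = j
      · subst hkj
        simp [Pi.single_eq_of_ne h4, Pi.single_eq_of_ne h5]
      · simp [Pi.single_eq_of_ne hki, Pi.single_eq_of_ne hkj]
  obtain ⟨x1, y1, e1⟩ := key ⟨0, by omega⟩ ⟨1, by omega⟩ (by simp)
  obtain ⟨x2, y2, e2⟩ := key ⟨2, by omega⟩ ⟨3, by omega⟩ (by simp)
  obtain ⟨x3, y3, e3⟩ := key ⟨4, by omega⟩ ⟨5, by omega⟩ (by simp)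
  exact ⟨_, _, _, e1, e2, e3, horth _ _ _ _ (by simp) (by simp) (by simp) (by simp) _ _ _ _,
    horth _ _ _ _ (by simp) (by simp) (by simp) (by simp) _ _ _ _,
    horth _ _ _ _ (by simp) (by simp) (by simp) (by simp) _ _ _ _⟩

theorem dqF_nondegenerate (h2 : (2 : F) ≠ 0) {n : ℕ} (c : Fin n → F) (hc : ∀ i, c i ≠ 0) :
    (polarBilin (dqF c)).Nondegenerate := H637.DQ_nondegenerate h2 c hc

theorem Sp.le {n : ℕ} {c : Fin n → F} (h : Sp c) : 8 ≤ n := by
  have h1 := h.odd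
  have h2 := h.h6
  rw [Nat.odd_iff] at h1
  have h3 : Fintype.card F % 4 = 1 ∨ Fintype.card F % 4 = 3 := by omega
  rcases h3 with h3 | h3
  · rcases h2.1 h3 with h4 | h4 <;> omega
  · rcases h2.2 h3 with h4 | h4 | h4 <;> omega

/-- **Piece 11.** -/
theorem pCover : PCover := by
  intro F _ _ n b c d hc hb hd K S _ _ _ π hπs hπc _ hK ψ ρ hρs hρc hψ
  have hn := Sp.le hc
  have h2 := two_ne hc.odd
  have hQ₁ := dqF_nondegenerate h2 c hc.ne
  have hQ₂ := dqF_nondegenerate h2 d hd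
  obtain ⟨u₁, u₂, u₃, q1, q2, q3, h12, h13, h23⟩ := exists_three h2 (by omega) c hc.ne
  obtain ⟨hX, g, h, hgh, hg, hh⟩ := omega_fun hc.odd hQ₁ (by rw [Fintype.card_fin]; omega) (coe_dqF c).symm
    one_ne_zero q1 q2 q3 h12 h13 h23
  have n1 : dqF c u₁ ≠ 0 := by rw [q1]; exact one_ne_zero
  have n2 : dqF c u₂ ≠ 0 := by rw [q2]; exact one_ne_zero
  have n3 : dqF c u₃ ≠ 0 := by rw [q3]; exact one_ne_zero
  have hpol : ∀ u v : Fin n → F, polar (⇑(dqF c)) u v = 0 →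
      polar (⇑(sumForm (dqF c) (dqF d))) (Sum.elim u 0) (Sum.elim v 0) = 0 := by
    intro u v huv
    rw [polar_sumForm, Sum.elim_comp_inl, Sum.elim_comp_inl, Sum.elim_comp_inr, Sum.elim_comp_inr, huv, zero_add]
    simp [polar]
  have hmat : ∀ {u v : Fin n → F}, dqF c u ≠ 0 → dqF c v ≠ 0 → ∀ {g : Om c},
      mx g.1 = reflectionMatrix ⇑(dqF c) u * reflectionMatrix ⇑(dqF c) v →
      mx (inU c d g).1 = reflectionMatrix ⇑(sumForm (dqF c) (dqF d)) (Sum.elim u 0) *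
        reflectionMatrix ⇑(sumForm (dqF c) (dqF d)) (Sum.elim v 0) := by
    intro u v hu hv g hg
    rw [← fromBlocks_refl hu, ← fromBlocks_refl hv, Matrix.fromBlocks_multiply]
    rw [Matrix.mul_zero, Matrix.mul_zero, Matrix.zero_mul, Matrix.zero_mul, Matrix.mul_zero, Matrix.zero_mul,
      Matrix.mul_one, add_zero, add_zero, zero_add, zero_add, ← hg]
    rfl
  exact cover_fun hc.odd (sumForm (dqF c) (dqF d)) (sumForm_nondegenerate _ _ hQ₁ hQ₂)
    (by rw [Fintype.card_sum, Fintype.card_fin]; omega) one_ne_zero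
    (by rw [sumForm_elim_left, q1]) (by rw [sumForm_elim_left, q2]) (by rw [sumForm_elim_left, q3])
    (hpol _ _ h12) (hpol _ _ h13) (hpol _ _ h23)
    (by rw [coe_sumForm, coe_dqF, coe_dqF]) hX (inU c d) hgh (hmat n1 n2 hg) (hmat n2 n3 hh)
    π hπs hπc hK.commutator_eq_top ψ ρ hρs hρc hψ

end dq

end Cfsg.Agent.H889.Cover
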